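import Cfsg.Agent.H873.Tits.Facts

/-!
# S3414, G2: geometric facts about strongly transitive generalized polygons, first half

Paths, projections, fixed paths, and the fields `two_trans`, `two_trans'`, `opp_symm`, `opp_tp`, `exists_opp`, `extend`, `extend3`,
`pair_trans`, `path_trans`, `rigid`, `K_opp`, `K_opp_H`, `fix_unique`, `core`, `proj_exists`, `proj_opp`, `proj_fix` of `Facts`.
-/

set_option autoImplicit false

namespace Cfsg.Agent.H640.Tits

open Cfsg.Agent.H873.Tits

universe u v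

/-! ### Paths -/

section path

variable {V : Type v} {adj : V → V → Prop}

theorem pmono {k l : ℕ} {p : ℕ → V} (h : IsPath adj k p) (hl : l ≤ k) : IsPath adj l p :=
  ⟨fun i hi => h.1 i (by omega), fun i hi => h.2 i (by omega)⟩

theorem pcongr {k : ℕ} {p p' : ℕ → V} (h : IsPath adj k p) (he : ∀ i, i ≤ k → p' i = p i) : IsPath adj k p' :=
  ⟨fun i hi => by rw [he i (by omega), he (i + 1) (by omega)]; exact h.1 i hi,
   fun i hi => by rw [he i (by omega), he (i + 2) (by omega)]; exact h.2 i hi⟩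

theorem pshift {k : ℕ} {p : ℕ → V} (h : IsPath adj k p) (i : ℕ) : IsPath adj (k - i) (fun j => p (i + j)) :=
  ⟨fun j hj => h.1 (i + j) (by omega), fun j hj => h.2 (i + j) (by omega)⟩

theorem prev (hs : ∀ {v w : V}, adj v w → adj w v) {k : ℕ} {p : ℕ → V} (h : IsPath adj k p) :
    IsPath adj k (fun j => p (k - j)) := by
  refine ⟨fun i hi => ?_, fun i hi => ?_⟩
  · have h1 := h.1 (k - (i + 1)) (by omega)
    have e : k - (i + 1) + 1 = k - i := by omega
    rw [e] at h1
    exact hs h1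
  · have h1 := h.2 (k - (i + 2)) (by omega)
    have e : k - (i + 2) + 2 = k - i := by omega
    rw [e] at h1
    exact h1.symm

theorem pappend {k l : ℕ} {p s : ℕ → V} (h : IsPath adj k p) (h' : IsPath adj l s) (he : p k = s 0)
    (hne : 1 ≤ k → 1 ≤ l → s 1 ≠ p (k - 1)) : IsPath adj (k + l) (fun j => if j ≤ k then p j else s (j - k)) := by
  refine ⟨fun i hi => ?_, fun i hi => ?_⟩
  · dsimp only
    by_cases h1 : i + 1 ≤ k
    · rw [if_pos (by omega), if_pos h1]
      exact h.1 i (by omega)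
    · by_cases h2 : i = k
      · subst h2
        rw [if_pos le_rfl, if_neg (by omega), he]
        have e : i + 1 - i = 0 + 1 := by omega
        rw [e]
        exact h'.1 0 (by omega)
      · rw [if_neg (by omega), if_neg (by omega)]
        have e : i + 1 - k = i - k + 1 := by omega
        rw [e]
        exact h'.1 (i - k) (by omega)
  · dsimp only
    by_cases h1 : i + 2 ≤ k
    · rw [if_pos h1, if_pos (by omega)]
      exact h.2 i (by omega)
    · by_cases h2 : i + 1 = k
      · rw [if_neg (by omega), if_pos (by omega)]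
        have e : i + 2 - k = 1 := by omega
        have e2 : i = k - 1 := by omega
        rw [e, e2]
        exact hne (by omega) (by omega)
      · by_cases h3 : i = k
        · subst h3
          rw [if_neg (by omega), if_pos le_rfl, he]
          have e : i + 2 - i = 0 + 2 := by omega
          rw [e]
          exact h'.2 0 (by omega)
        · rw [if_neg (by omega), if_neg (by omega)]
          have e : i + 2 - k = i - k + 2 := by omega
          rw [e]
          exact h'.2 (i - k) (by omega)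

theorem psnoc {k : ℕ} {p : ℕ → V} {w : V} (h : IsPath adj k p) (hw : adj (p k) w) (hne : 1 ≤ k → w ≠ p (k - 1)) :
    IsPath adj (k + 1) (fun j => if j ≤ k then p j else w) := by
  refine ⟨fun i hi => ?_, fun i hi => ?_⟩
  · dsimp only
    by_cases h1 : i + 1 ≤ k
    · rw [if_pos (by omega), if_pos h1]
      exact h.1 i (by omega)
    · have e : i = k := by omega
      subst e
      rw [if_pos le_rfl, if_neg (by omega)]
      exact hw
  · dsimp only
    by_cases h1 : i + 2 ≤ k
    · rw [if_pos h1, if_pos (by omega)]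
      exact h.2 i (by omega)
    · rw [if_neg (by omega), if_pos (by omega)]
      have e2 : i = k - 1 := by omega
      rw [e2]
      exact hne (by omega)

theorem pcons {k : ℕ} {p : ℕ → V} {w : V} (h : IsPath adj k p) (hw : adj w (p 0)) (hne : 1 ≤ k → p 1 ≠ w) :
    IsPath adj (k + 1) (fun j => if j = 0 then w else p (j - 1)) := by
  refine ⟨fun i hi => ?_, fun i hi => ?_⟩
  · dsimp only
    by_cases h1 : i = 0
    · subst h1
      rw [if_pos rfl, if_neg (by omega)]
      exact hw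
    · rw [if_neg h1, if_neg (by omega)]
      have e : i + 1 - 1 = i - 1 + 1 := by omega
      rw [e]
      exact h.1 (i - 1) (by omega)
  · dsimp only
    by_cases h1 : i = 0
    · subst h1
      rw [if_pos rfl, if_neg (by omega)]
      exact hne (by omega)
    · rw [if_neg h1, if_neg (by omega)]
      have e : i + 2 - 1 = i - 1 + 2 := by omega
      rw [e]
      exact h.2 (i - 1) (by omega)

theorem pzero (v : V) : IsPath adj 0 (fun _ => v) := ⟨fun i hi => by omega, fun i hi => by omega⟩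

theorem pone {a b : V} (h : adj a b) : IsPath adj 1 (fun j => if j = 0 then a else b) :=
  ⟨fun i hi => by
    have e : i = 0 := by omega
    subst e
    dsimp only
    rw [if_pos rfl, if_neg (by omega)]
    exact h, fun i hi => by omega⟩

/-- the path `a, b, c` -/
def q2 (a b c : V) : ℕ → V := fun j => if j = 0 then a else if j = 1 then b else c

theorem ptwo {a b c : V} (h : adj a b) (h' : adj b c) (hne : c ≠ a) : IsPath adj 2 (q2 a b c) := by
  refine ⟨fun i hi => ?_, fun i hi => ?_⟩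
  · rcases (by omega : i = 0 ∨ i = 1) with rfl | rfl
    · exact h
    · exact h'
  · have e : i = 0 := by omega
    subst e
    exact hne

/-- the path `a, b, c, d` -/
def q3 (a b c d : V) : ℕ → V := fun j => if j = 0 then a else if j = 1 then b else if j = 2 then c else d

theorem pthree {a b c d : V} (h : adj a b) (h' : adj b c) (h'' : adj c d) (hne : c ≠ a) (hne' : d ≠ b) :
    IsPath adj 3 (q3 a b c d) := by
  refine ⟨fun i hi => ?_, fun i hi => ?_⟩
  · rcases (by omega : i = 0 ∨ i = 1 ∨ i = 2) with rfl | rfl | rfl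
    · exact h
    · exact h'
    · exact h''
  · rcases (by omega : i = 0 ∨ i = 1) with rfl | rfl
    · exact hne
    · exact hne'

/-- the path `a, b, c, d, e` -/
def q4 (a b c d e : V) : ℕ → V :=
  fun j => if j = 0 then a else if j = 1 then b else if j = 2 then c else if j = 3 then d else e

theorem pfour {a b c d e : V} (h : adj a b) (h' : adj b c) (h'' : adj c d) (h''' : adj d e) (hne : c ≠ a) (hne' : d ≠ b)
    (hne'' : e ≠ c) : IsPath adj 4 (q4 a b c d e) := by
  refine ⟨fun i hi => ?_, fun i hi => ?_⟩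
  · rcases (by omega : i = 0 ∨ i = 1 ∨ i = 2 ∨ i = 3) with rfl | rfl | rfl | rfl
    · exact h
    · exact h'
    · exact h''
    · exact h'''
  · rcases (by omega : i = 0 ∨ i = 1 ∨ i = 2) with rfl | rfl | rfl
    · exact hne
    · exact hne'
    · exact hne''

end path

variable {G : Type u} [Group G] {V : Type v} [MulAction G V] (P : Pol G V)

theorem n_even : Even P.n := by
  rcases P.hn with h | h | h <;> rw [h] <;> decide

theorem four_le : 4 ≤ P.n := by
  rcases P.hn with h | h | h <;> omega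

theorem psmul {k : ℕ} {p : ℕ → V} (h : IsPath P.adj k p) (g : G) : IsPath P.adj k (fun i => g • p i) :=
  ⟨fun i hi => P.smul_adj g (h.1 i hi), fun i hi he => h.2 i hi (MulAction.injective g he)⟩

theorem tp_path {k : ℕ} {p : ℕ → V} (h : IsPath P.adj k p) :
    ∀ i, i ≤ k → P.tp (p i) = if Even i then P.tp (p 0) else !P.tp (p 0) := by
  intro i
  induction i with
  | zero => intro _; rw [if_pos Even.zero]
  | succ i ih =>
    intro hi
    rw [P.tp_adj (h.1 i (by omega)), ih (by omega)]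
    by_cases he : Even i
    · rw [if_pos he, if_neg (by rw [Nat.even_add_one]; exact not_not.2 he)]
    · rw [if_neg he, if_pos (Nat.even_add_one.2 he), Bool.not_not]

theorem tp_even {k : ℕ} {p : ℕ → V} (h : IsPath P.adj k p) (hk : Even k) : P.tp (p k) = P.tp (p 0) := by
  rw [tp_path P h k le_rfl, if_pos hk]

theorem even_of_tp {k : ℕ} {p : ℕ → V} (h : IsPath P.adj k p) (he : P.tp (p k) = P.tp (p 0)) : Even k := by
  by_contra hk
  rw [tp_path P h k le_rfl, if_neg hk] at he
  exact Bool.not_ne_self _ he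

theorem odd_of_tp {k : ℕ} {p : ℕ → V} (h : IsPath P.adj k p) (he : P.tp (p k) = !P.tp (p 0)) : ¬ Even k := by
  intro hk
  rw [tp_path P h k le_rfl, if_pos hk] at he
  exact Bool.not_ne_self _ he.symm

/-- a third neighbour -/
theorem third (v a b : V) : ∃ w, P.adj v w ∧ w ≠ a ∧ w ≠ b := by
  classical
  by_contra hcon
  push Not at hcon
  have h1 : Function.Injective (fun w : {w : V // P.adj v w} => decide (w.1 = a)) := by
    intro w w' h
    apply Subtype.ext
    by_cases hw : w.1 = a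
    · by_cases hw' : w'.1 = a
      · rw [hw, hw']
      · simp [hw, hw'] at h
    · by_cases hw' : w'.1 = a
      · simp [hw, hw'] at h
      · rw [hcon w.1 w.2 hw, hcon w'.1 w'.2 hw']
  have h2 := Nat.card_le_card_of_injective _ h1
  rw [P.card_nb, Nat.card_eq_fintype_card, Fintype.card_bool] at h2
  have h3 := P.two_le (P.tp v)
  omega

/-- paths can be extended -/
theorem extend_to {k : ℕ} {p : ℕ → V} (h : IsPath P.adj k p) {m : ℕ} (hm : k ≤ m) :
    ∃ p' : ℕ → V, IsPath P.adj m p' ∧ ∀ i, i ≤ k → p' i = p i := by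
  induction m, hm using Nat.le_induction with
  | base => exact ⟨p, h, fun _ _ => rfl⟩
  | succ m hm ih =>
    obtain ⟨p', h1, h2⟩ := ih
    obtain ⟨w, hw, hw1, -⟩ := third P (p' m) (p' (m - 1)) (p' (m - 1))
    refine ⟨_, psnoc h1 hw fun _ => hw1, fun i hi => ?_⟩
    rw [if_pos (by omega), h2 i hi]

/-- a path of length `< n` is determined by its ends, so fixed if its ends are -/
theorem fix_path {k : ℕ} {p : ℕ → V} (h : IsPath P.adj k p) (hk : k < P.n) {g : G} (h0 : g • p 0 = p 0)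
    (h1 : g • p k = p k) : ∀ i, i ≤ k → g • p i = p i :=
  (P.path_unique (psmul P h g) h h0 h1 (by omega)).2

/-- the same for length `n` if the first step is fixed -/
theorem fix_path' {p : ℕ → V} (h : IsPath P.adj P.n p) {g : G} (h0 : g • p 0 = p 0) (h1 : g • p 1 = p 1)
    (hn : g • p P.n = p P.n) : ∀ i, i ≤ P.n → g • p i = p i := by
  have h4 := four_le P
  intro i hi
  rcases Nat.eq_zero_or_pos i with rfl | hi0
  · exact h0
  · have h2 := fix_path P (pshift h 1) (by omega) (g := g) h1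
      (by rw [show 1 + (P.n - 1) = P.n by omega]; exact hn) (i - 1) (by omega)
    rwa [show 1 + (i - 1) = i by omega] at h2

theorem opp_symm : ∀ {v w : V}, P.Opp v w → P.Opp w v := by
  rintro v w ⟨p, hp, h0, hn⟩
  refine ⟨_, prev P.symm hp, ?_, ?_⟩
  · rw [Nat.sub_zero, hn]
  · rw [Nat.sub_self, h0]

theorem opp_tp : ∀ {v w : V}, P.Opp v w → P.tp w = P.tp v := by
  rintro v w ⟨p, hp, rfl, rfl⟩
  exact tp_even P hp (n_even P)

/-- the projection: a geodesic between opposite vertices with given first step -/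
theorem proj_path {v v' a : V} (ho : P.Opp v v') (ha : P.adj v a) :
    ∃ p : ℕ → V, IsPath P.adj P.n p ∧ p 0 = v ∧ p 1 = a ∧ p P.n = v' := by
  have h4 := four_le P
  have htp := opp_tp P ho
  obtain ⟨r, hr, hr0, hrn⟩ := ho
  obtain ⟨k, hk, s, hs, hs0, hsk⟩ := P.exists_path a v'
  have hodd : ¬ Even k := odd_of_tp P hs (by rw [hsk, hs0, htp, P.tp_adj ha, Bool.not_not])
  have hk0 : k ≠ 0 := by rintro rfl; exact hodd Even.zero
  have hkn : k ≠ P.n := by rintro rfl; exact hodd (n_even P)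
  by_cases h1 : s 1 = v
  · exfalso
    have h2 := (P.path_unique (pshift hs 1) hr (by rw [hr0]; exact h1)
      (by rw [show 1 + (k - 1) = k by omega, hsk, hrn]) (by omega)).1
    omega
  · have h2 := pcons (w := v) hs (by rw [hs0]; exact ha) (fun _ => h1)
    have h3 : k + 1 = P.n := by
      by_contra hne
      have h5 := (P.path_unique h2 hr (by rw [if_pos rfl, hr0])
        (by rw [if_neg (by omega), show k + 1 - 1 = k by omega, hsk, hrn]) (by omega)).1
      exact hne h5
    rw [h3] at h2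
    refine ⟨_, h2, if_pos rfl, ?_, ?_⟩
    · rw [if_neg (by omega), Nat.sub_self, hs0]
    · rw [if_neg (by omega), show P.n - 1 = k by omega, hsk]

/-! ### The fields -/

theorem two_trans : ∀ {v a b a' b' : V}, P.adj v a → P.adj v b → a ≠ b → P.adj v a' → P.adj v b' → a' ≠ b' →
    ∃ g ∈ P.S v, g • a = a' ∧ g • b = b' := by
  intro v a b a' b' ha hb hab ha' hb' hab'
  have h4 := four_le P
  obtain ⟨g, hg⟩ := P.trans (k := 2) (by omega) (ptwo (P.symm ha) hb hab.symm) (ptwo (P.symm ha') hb' hab'.symm)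
    (by show P.tp a = P.tp a'; rw [P.tp_adj ha, P.tp_adj ha'])
  exact ⟨g, hg 1 (by omega), hg 0 (by omega), hg 2 (by omega)⟩

theorem two_trans' : ∀ {v v' a b a' b' : V}, P.Opp v v' → P.adj v a → P.adj v b → a ≠ b → P.adj v a' → P.adj v b' → a' ≠ b' →
    ∃ g ∈ P.S v ⊓ P.S v', g • a = a' ∧ g • b = b' := by
  intro v v' a b a' b' ho ha hb hab ha' hb' hab'
  have h4 := four_le P
  obtain ⟨p, hp, hp0, hp1, hpn⟩ := proj_path P ho ha
  obtain ⟨r, hr, hr0, hr1, hrn⟩ := proj_path P ho ha'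
  have h1 := pcons (w := b) hp (by rw [hp0]; exact P.symm hb) (fun _ => by rw [hp1]; exact hab)
  have h2 := pcons (w := b') hr (by rw [hr0]; exact P.symm hb') (fun _ => by rw [hr1]; exact hab')
  obtain ⟨g, hg⟩ := P.trans le_rfl h1 h2 (by rw [if_pos rfl, if_pos rfl, P.tp_adj hb, P.tp_adj hb'])
  refine ⟨g, ⟨?_, ?_⟩, ?_, ?_⟩
  · have := hg 1 (by omega)
    rw [if_neg (by omega), if_neg (by omega), Nat.sub_self, hp0, hr0] at this
    exact this
  · have := hg (P.n + 1) le_rfl
    rw [if_neg (by omega), if_neg (by omega), Nat.add_sub_cancel, hpn, hrn] at this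
    exact this
  · have := hg 2 (by omega)
    rw [if_neg (by omega), if_neg (by omega), show 2 - 1 = 1 by omega, hp1, hr1] at this
    exact this
  · have := hg 0 (by omega)
    rw [if_pos rfl, if_pos rfl] at this
    exact this

theorem exists_opp : ∀ v : V, ∃ v', P.Opp v v' := by
  intro v
  obtain ⟨p, hp, h0⟩ := extend_to P (pzero v) (Nat.zero_le P.n)
  exact ⟨p P.n, p, hp, h0 0 le_rfl, rfl⟩

theorem extend : ∀ {k : ℕ} {p : ℕ → V}, k ≤ P.n + 1 → IsPath P.adj k p →
    ∃ p' : ℕ → V, IsPath P.adj (P.n + 1) p' ∧ ∀ i, i ≤ k → p' i = p i :=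
  fun hk h => extend_to P h hk

theorem extend3 : ∀ {a b c : V}, P.adj a b → P.adj b c → a ≠ c →
    ∃ p : ℕ → V, IsPath P.adj (P.n + 1) p ∧ p 1 = a ∧ p 2 = b ∧ p 3 = c := by
  intro a b c hab hbc hac
  have h4 := four_le P
  obtain ⟨w, hw, hwb, -⟩ := third P a b b
  obtain ⟨p, hp, h⟩ := extend P (k := 3) (by omega) (pthree (P.symm hw) hab hbc hwb.symm hac.symm)
  exact ⟨p, hp, h 1 (by omega), h 2 (by omega), h 3 (by omega)⟩

theorem pair_trans : ∀ {w x y z u w' u' : V}, P.adj x y → P.adj z y → x ≠ z → P.adj x w → w ≠ y → P.adj z u → u ≠ y →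
    P.adj x w' → w' ≠ y → P.adj z u' → u' ≠ y → ∃ g ∈ P.S x ⊓ P.S y ⊓ P.S z, g • w = w' ∧ g • u = u' := by
  intro w x y z u w' u' hxy hzy hxz hxw hwy hzu huy hxw' hwy' hzu' huy'
  have h4 := four_le P
  obtain ⟨g, hg⟩ := P.trans (k := 4) (by omega)
    (pfour (P.symm hxw) hxy (P.symm hzy) hzu hwy.symm hxz.symm huy)
    (pfour (P.symm hxw') hxy (P.symm hzy) hzu' hwy'.symm hxz.symm huy')
    (by show P.tp w = P.tp w'; rw [P.tp_adj hxw, P.tp_adj hxw'])
  exact ⟨g, ⟨⟨hg 1 (by omega), hg 2 (by omega)⟩, hg 3 (by omega)⟩, hg 0 (by omega), hg 4 (by omega)⟩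

theorem path_trans : ∀ {w x y z w' : V}, P.adj x y → P.adj z y → x ≠ z → P.adj x w → w ≠ y → P.adj x w' → w' ≠ y →
    ∃ g ∈ P.S x ⊓ P.S y ⊓ P.S z, g • w = w' := by
  intro w x y z w' hxy hzy hxz hxw hwy hxw' hwy'
  have h4 := four_le P
  obtain ⟨g, hg⟩ := P.trans (k := 3) (by omega)
    (pthree (P.symm hxw) hxy (P.symm hzy) hwy.symm hxz.symm)
    (pthree (P.symm hxw') hxy (P.symm hzy) hwy'.symm hxz.symm)
    (by show P.tp w = P.tp w'; rw [P.tp_adj hxw, P.tp_adj hxw'])
  exact ⟨g, ⟨⟨hg 1 (by omega), hg 2 (by omega)⟩, hg 3 (by omega)⟩, hg 0 (by omega)⟩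

theorem K_opp_H : ∀ {v v' : V} {p : ℕ → V}, IsPath P.adj P.n p → p 0 = v → p P.n = v' →
    P.K v ⊓ P.S v' ≤ P.PS P.n p := by
  intro v v' p hp h0 hn g hg
  subst h0 hn
  have h4 := four_le P
  have h1 := fix_path' P hp hg.1.1 (hg.1.2 _ (hp.1 0 (by omega))) hg.2
  rw [Pol.PS, Subgroup.mem_iInf]
  rintro ⟨i, hi⟩
  exact h1 i hi

theorem mem_PS {k : ℕ} {p : ℕ → V} {g : G} : g ∈ P.PS k p ↔ ∀ i, i ≤ k → g • p i = p i := by
  rw [Pol.PS, Subgroup.mem_iInf]
  exact ⟨fun h i hi => h ⟨i, hi⟩, fun h i => h i.1 i.2⟩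

theorem mem_H {p : ℕ → V} {g : G} : g ∈ P.H p ↔ ∀ i, i ≤ P.n + 1 → g • p i = p i := mem_PS P

theorem K_opp : ∀ {v v' : V}, P.Opp v v' → P.K v ⊓ P.S v' ≤ P.K v' := by
  intro v v' ho g hg
  have h4 := four_le P
  refine ⟨hg.2, fun b hb => ?_⟩
  obtain ⟨p, hp, hp0, hp1, hpn⟩ := proj_path P (opp_symm P ho) hb
  -- the neighbour of `v` is fixed
  have h1 : P.adj v (p (P.n - 1)) := by
    have := hp.1 (P.n - 1) (by omega)
    rw [show P.n - 1 + 1 = P.n by omega, hpn] at this
    exact P.symm this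
  have h2 := fix_path P (pmono hp (show P.n - 1 ≤ P.n by omega)) (by omega) (g := g) (by rw [hp0]; exact hg.2)
    (hg.1.2 _ h1) 1 (by omega)
  rwa [hp1] at h2

theorem proj_exists : ∀ {y x y' : V}, P.Opp y y' → P.adj y x → ∃ w, P.Thru y x w y' := by
  intro y x y' ho hx
  obtain ⟨p, hp, h0, h1, hn⟩ := proj_path P ho hx
  exact ⟨p 2, p, hp, h0, h1, rfl, hn⟩

theorem proj_opp : ∀ {y x w : V}, P.adj y x → P.adj x w → w ≠ y → ∃ y', P.Opp y y' ∧ P.Thru y x w y' := by
  intro y x w hyx hxw hwy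
  have h4 := four_le P
  obtain ⟨p, hp, h⟩ := extend_to P (ptwo hyx hxw hwy) (show 2 ≤ P.n by omega)
  have h0 : p 0 = y := h 0 (by omega)
  have h1 : p 1 = x := h 1 (by omega)
  have h2 : p 2 = w := h 2 (by omega)
  exact ⟨p P.n, ⟨p, hp, h0, rfl⟩, p, hp, h0, h1, h2, rfl⟩

theorem proj_fix : ∀ {y x w y' : V} {g : G}, P.Thru y x w y' → g ∈ P.S y → g ∈ P.S x → g ∈ P.S y' → g • w = w := by
  rintro y x w y' g ⟨p, hp, rfl, rfl, rfl, rfl⟩ hy hx hy'
  have h4 := four_le P
  exact fix_path' P hp hy hx hy' 2 (by omega)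

theorem fix_unique : ∀ {y : V} {g : G}, g ∈ P.K y → (∀ x w, P.adj x y → P.adj x w → w ≠ y → g • w ≠ w) →
    ∀ v, P.tp v = P.tp y → g • v = v → v = y := by
  intro y g hg h v hv hgv
  have h4 := four_le P
  obtain ⟨k, hk, p, hp, h0, hpk⟩ := P.exists_path y v
  have he : Even k := even_of_tp P hp (by rw [h0, hpk, hv])
  rcases Nat.eq_zero_or_pos k with rfl | hk0
  · rw [← h0, hpk]
  · exfalso
    have hk2 : 2 ≤ k := by
      obtain ⟨j, hj⟩ := he
      omega
    have hgp0 : g • p 0 = p 0 := by rw [h0]; exact hg.1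
    have hadj : P.adj y (p 1) := by rw [← h0]; exact hp.1 0 (by omega)
    have hgp1 : g • p 1 = p 1 := hg.2 _ hadj
    have hfix : g • p 2 = p 2 := by
      rcases Nat.lt_or_ge k P.n with hkn | hkn
      · exact fix_path P hp hkn hgp0 (by rw [hpk]; exact hgv) 2 (by omega)
      · have e : k = P.n := le_antisymm hk hkn
        subst e
        exact fix_path' P hp hgp0 hgp1 (by rw [hpk]; exact hgv) 2 (by omega)
    refine h (p 1) (p 2) (P.symm hadj) (hp.1 1 (by omega)) ?_ hfix
    have := hp.2 0 (by omega)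
    rwa [h0] at this

theorem core : ∀ {x y : V} (X : Subgroup G), P.adj x y → X ≤ P.S x ⊓ P.S y →
    (∀ g ∈ P.S x, ∀ a ∈ X, g * a * g⁻¹ ∈ X) → (∀ g ∈ P.S y, ∀ a ∈ X, g * a * g⁻¹ ∈ X) → X = ⊥ := by
  intro x y X hxy hX hnx hny
  -- the elements whose inverse conjugates `X` into itself
  have key : ∀ (k : ℕ) (p : ℕ → V), IsPath P.adj k p → p 0 = x → ∃ g : G, (∀ a ∈ X, g⁻¹ * a * g ∈ X) ∧
      (p k = g • x ∨ p k = g • y) := by
    intro k
    induction k with
    | zero => intro p _ h0; exact ⟨1, fun a ha => by simpa using ha, Or.inl (by rw [h0, one_smul])⟩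
    | succ k ih =>
      intro p hp h0
      obtain ⟨g, hg, hgk⟩ := ih p (pmono hp (Nat.le_succ k)) h0
      have hadj := hp.1 k (Nat.lt_succ_self k)
      rcases hgk with hgk | hgk
      · -- `p k = g x`
        rw [hgk] at hadj
        have h1 : P.adj x (g⁻¹ • p (k + 1)) := by
          rw [← P.adj_smul_iff g, smul_inv_smul]; exact hadj
        obtain ⟨h, hh⟩ := P.trans (k := 1) (by omega) (pone hxy) (pone h1) rfl
        have hx : h • x = x := hh 0 (by omega)
        have hy : h • y = g⁻¹ • p (k + 1) := hh 1 (by omega)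
        refine ⟨g * h, fun a ha => ?_, Or.inr ?_⟩
        · have h2 := hnx h⁻¹ (inv_mem (show h ∈ P.S x from hx)) _ (hg a ha)
          have e : (g * h)⁻¹ * a * (g * h) = h⁻¹ * (g⁻¹ * a * g) * h⁻¹⁻¹ := by group
          rw [e]; exact h2
        · rw [mul_smul, hy, smul_inv_smul]
      · rw [hgk] at hadj
        have h1 : P.adj y (g⁻¹ • p (k + 1)) := by
          rw [← P.adj_smul_iff g, smul_inv_smul]; exact hadj
        obtain ⟨h, hh⟩ := P.trans (k := 1) (by omega) (pone (P.symm hxy)) (pone h1) rfl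
        have hy : h • y = y := hh 0 (by omega)
        have hx : h • x = g⁻¹ • p (k + 1) := hh 1 (by omega)
        refine ⟨g * h, fun a ha => ?_, Or.inl ?_⟩
        · have h2 := hny h⁻¹ (inv_mem (show h ∈ P.S y from hy)) _ (hg a ha)
          have e : (g * h)⁻¹ * a * (g * h) = h⁻¹ * (g⁻¹ * a * g) * h⁻¹⁻¹ := by group
          rw [e]; exact h2
        · rw [mul_smul, hx, smul_inv_smul]
  rw [eq_bot_iff]
  intro a ha
  rw [Subgroup.mem_bot]
  apply P.faithful
  intro v
  obtain ⟨k, -, p, hp, h0, hk⟩ := P.exists_path x v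
  obtain ⟨g, hg, hgk⟩ := key k p hp h0
  rw [hk] at hgk
  have h1 := hX (hg a ha)
  rcases hgk with rfl | rfl
  · have h2 : (g⁻¹ * a * g) • x = x := h1.1
    rw [mul_smul, mul_smul, inv_smul_eq_iff] at h2
    exact h2
  · have h2 : (g⁻¹ * a * g) • y = y := h1.2
    rw [mul_smul, mul_smul, inv_smul_eq_iff] at h2
    exact h2

/-! ### Rigidity -/

/-- an element of `K x ⊓ K y` fixing a vertex opposite `y` is in `K z` and fixes a vertex opposite `z`, for all `z ~ y` -/
theorem rigid_step {x y z y' : V} {g : G} (hxy : P.adj x y) (hx : g ∈ P.K x) (hy : g ∈ P.K y) (ho : P.Opp y y')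
    (hy' : g • y' = y') (hz : P.adj y z) : g ∈ P.K z ∧ ∃ z', P.Opp z z' ∧ g • z' = z' := by
  have h4 := four_le P
  obtain ⟨a, ha, hax, haz⟩ := third P y x z
  obtain ⟨p, hp, hp0, hp1, hpn⟩ := proj_path P ho ha
  have hfix : ∀ i, i ≤ P.n → g • p i = p i := by
    have h1 := K_opp_H P hp hp0 hpn ⟨hy, hy'⟩
    exact (mem_PS P).1 h1
  -- the vertex at distance `n - 1`
  have hopp : ∀ {b : V}, P.adj y b → b ≠ a → P.Opp b (p (P.n - 1)) := by
    intro b hb hba
    have h1 := pcons (w := b) (pmono hp (show P.n - 1 ≤ P.n by omega)) (by rw [hp0]; exact P.symm hb)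
      (fun _ => by rw [hp1]; exact hba.symm)
    rw [show P.n - 1 + 1 = P.n by omega] at h1
    exact ⟨_, h1, if_pos rfl, if_neg (by omega)⟩
  have hu := hfix (P.n - 1) (by omega)
  have h1 : g ∈ P.K (p (P.n - 1)) := K_opp P (hopp (P.symm hxy) hax.symm) ⟨hx, hu⟩
  have hoz := hopp hz haz.symm
  exact ⟨K_opp P (opp_symm P hoz) ⟨h1, hy.2 z hz⟩, _, hoz, hu⟩

theorem rigid_opp {x y y' : V} {g : G} (hxy : P.adj x y) (hx : g ∈ P.K x) (hy : g ∈ P.K y) (ho : P.Opp y y')
    (hy' : g • y' = y') : g = 1 := by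
  have key : ∀ (k : ℕ) (p : ℕ → V), IsPath P.adj k p → p 0 = y → g ∈ P.K (p k) ∧ (∃ z', P.Opp (p k) z' ∧ g • z' = z') ∧
      ∃ w, P.adj w (p k) ∧ g ∈ P.K w := by
    intro k
    induction k with
    | zero =>
      intro p _ h0
      rw [h0]
      exact ⟨hy, ⟨y', ho, hy'⟩, x, hxy, hx⟩
    | succ k ih =>
      intro p hp h0
      obtain ⟨h1, ⟨z', h2, h3⟩, w, h4, h5⟩ := ih p (pmono hp (Nat.le_succ k)) h0
      have hadj := hp.1 k (Nat.lt_succ_self k)
      obtain ⟨h6, h7⟩ := rigid_step P h4 h5 h1 h2 h3 hadj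
      exact ⟨h6, h7, p k, hadj, h1⟩
  apply P.faithful
  intro v
  obtain ⟨k, -, p, hp, h0, hk⟩ := P.exists_path y v
  have h1 := (key k p hp h0).1.1
  rwa [hk] at h1

theorem rigid : ∀ {p : ℕ → V} {i : ℕ} {g : G}, IsPath P.adj (P.n + 1) p → i ≤ P.n → g ∈ P.K (p i) → g ∈ P.K (p (i + 1)) →
    g ∈ P.H p → g = 1 := by
  intro p i g hp hi h1 h2 hH
  have h4 := four_le P
  rw [mem_H] at hH
  -- the other half of the apartment
  obtain ⟨s, hs, hs0, hs1, hsn⟩ := proj_path P (v := p P.n) (v' := p 0) (a := p (P.n + 1))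
    (opp_symm P ⟨p, pmono hp (Nat.le_succ _), rfl, rfl⟩) (hp.1 P.n (Nat.lt_succ_self _))
  have hsfix : ∀ j, j ≤ P.n → g • s j = s j := fix_path' P hs (by rw [hs0]; exact hH _ (by omega))
    (by rw [hs1]; exact hH _ le_rfl) (by rw [hsn]; exact hH _ (Nat.zero_le _))
  -- the vertex opposite `p i`
  have h3 := pappend (pmono (pshift hp i) (show P.n - i ≤ P.n + 1 - i by omega)) (pmono hs (show i ≤ P.n from hi))
    (by rw [show i + (P.n - i) = P.n by omega, hs0]) (by
      intro h5 h6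
      rw [hs1, show i + (P.n - i - 1) = P.n - 1 by omega]
      have := hp.2 (P.n - 1) (by omega)
      rwa [show P.n - 1 + 2 = P.n + 1 by omega] at this)
  rw [show P.n - i + i = P.n by omega] at h3
  refine rigid_opp P (P.symm (hp.1 i (by omega))) h2 h1 (y' := s i) ⟨_, h3, ?_, ?_⟩ (hsfix i hi)
  · rw [if_pos (Nat.zero_le _), Nat.add_zero]
  · by_cases hi0 : i = 0
    · subst hi0
      rw [if_pos (by omega), hs0, Nat.zero_add]
    · rw [if_neg (by omega), show P.n - (P.n - i) = i by omega]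

end Cfsg.Agent.H640.Tits
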