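import Cfsg.Agent.H640.Tits.Geo
import Cfsg.Agent.S1142

/-!
# S3414, G1: the generalized polygon of a (B,N)-pair of rank two

`V = ⨿ b, G ⧸ par b`, `par b = B ∪ B σ_b B`; two vertices are adjacent iff the cosets meet.
-/

set_option autoImplicit false

namespace Cfsg.Agent.H640.Tits.Bn

open Cfsg Cfsg.Agent.LieExceptional.BNPairCore Cfsg.Agent.LieRecognition.FeitHigmanGroup
open Cfsg.Agent.H873.Tits

universe u

/-- `σ true`, `σ false` are the two generators, `2 * n` is the order of the Weyl group -/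
structure Dat {G : Type u} [Group G] (P : BNPair G) where
  σ : Bool → G
  hS : P.S = {σ true, σ false}
  ne : σ true ≠ σ false
  n : ℕ
  two_le : 2 ≤ n
  red : ∀ a k, k ≤ n → len P (alt k (σ a) (σ !a)) = k
  braid : ∀ a, (alt n (σ a) (σ !a))⁻¹ * alt n (σ !a) (σ a) ∈ P.B
  hne : ∀ a k, 1 ≤ k → k < n → (alt k (σ a) (σ !a))⁻¹ * alt k (σ !a) (σ a) ∉ P.B

/-- existence of the data -/
theorem exists_dat {G : Type u} [Group G] [Finite G] (P : BNPair G) (h2 : P.rank = 2) :
    ∃ D : Dat P, ((P.B ⊓ P.N).subgroupOf P.N).index = 2 * D.n := by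
  have hcard : P.S.ncard = 2 := by
    rw [← h2]; rfl
  obtain ⟨s, t, hst, hS⟩ := Set.ncard_eq_two.1 hcard
  have hs : s ∈ P.S := by rw [hS]; simp
  have ht : t ∈ P.S := by rw [hS]; simp
  obtain ⟨n, hn2, hred, hbraid, hne⟩ := exists_max_red hS hst
  refine ⟨⟨fun b => if b then s else t, by simpa using hS, by simpa using hst, n, hn2, ?_, ?_, ?_⟩,
    card_weyl hS (le_trans (by norm_num) hn2) hred hbraid hne⟩
  · intro a k hk
    have := hred.of_le hs ht hk
    cases a
    · exact this.2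
    · exact this.1
  · intro a
    cases a
    · exact rel_symm hbraid
    · exact hbraid
  · intro a k h1 h2
    cases a
    · exact fun h => hne k h1 h2 (rel_symm h)
    · exact hne k h1 h2

variable {G : Type u} [Group G] {P : BNPair G} (D : Dat P)

namespace Dat

theorem mem (b : Bool) : D.σ b ∈ P.S := by
  rw [D.hS]
  cases b <;> simp

theorem memN (b : Bool) : D.σ b ∈ P.N := mem_N (D.mem b)

theorem eq_of_mem {s : G} (hs : s ∈ P.S) : ∃ b, s = D.σ b := by
  rw [D.hS] at hs
  rcases hs with h | h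
  · exact ⟨true, h⟩
  · exact ⟨false, h⟩

/-- alternating words starting with `σ a` -/
def W (a : Bool) (k : ℕ) : G := alt k (D.σ a) (D.σ !a)

theorem W_zero (a : Bool) : D.W a 0 = 1 := rfl

theorem W_succ (a : Bool) (k : ℕ) : D.W a (k + 1) = D.σ a * D.W (!a) k := by
  rw [W, W, alt_succ, Bool.not_not]

theorem W_one (a : Bool) : D.W a 1 = D.σ a := by rw [W, alt_one]

theorem W_mem (a : Bool) (k : ℕ) : D.W a k ∈ P.N := alt_mem_N (D.mem _) (D.mem _) k

theorem len_W (a : Bool) {k : ℕ} (hk : k ≤ D.n) : len P (D.W a k) = k := D.red a k hk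

theorem eq_len {a b : Bool} {i j : ℕ} (hi : i ≤ D.n) (hj : j ≤ D.n) {g : G} (h : g ∈ C P (D.W a i))
    (h' : g ∈ C P (D.W b j)) : i = j := by
  have := len_congr (rel_of_C_eq (D.W_mem a i) (D.W_mem b j) (C_eq_of_mem_mem h h'))
  rwa [D.len_W a hi, D.len_W b hj] at this

theorem eq_type {a b : Bool} {i : ℕ} (h1 : 1 ≤ i) (hi : i < D.n) {g : G} (h : g ∈ C P (D.W a i))
    (h' : g ∈ C P (D.W b i)) : a = b := by
  by_contra hab
  have hb : b = !a := by cases a <;> cases b <;> simp_all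
  subst hb
  refine D.hne a i h1 hi ?_
  have := rel_of_C_eq (D.W_mem a i) (D.W_mem (!a) i) (C_eq_of_mem_mem h h')
  rwa [W, W, Bool.not_not] at this

theorem comp {a : Bool} {j : ℕ} (hj : j + 1 ≤ D.n) {x y z : G} (h : x⁻¹ * y ∈ C P (D.σ a))
    (h' : y⁻¹ * z ∈ C P (D.W (!a) j)) : x⁻¹ * z ∈ C P (D.W a (j + 1)) := by
  rw [W_succ]
  refine R_mk_iff.1 (R_comp (D.mem a) (D.W_mem (!a) j) ?_ (R_mk_iff.2 h) (R_mk_iff.2 h'))
  rw [← D.W_succ, D.len_W _ hj, D.len_W _ (by omega)]
  omega

/-- every length is at most `n` -/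
theorem len_le {m : G} (hm : m ∈ P.N) : len P m ≤ D.n := by
  have hS' : P.S = {D.σ true, D.σ false} := D.hS
  have key : ∀ k, ∀ w ∈ P.N, len P w = k → k ≤ D.n := by
    intro k
    induction k with
    | zero => intro w _ _; exact Nat.zero_le _
    | succ k ih =>
      intro w hw hk
      have aux : ∀ a : Bool, (D.W a (k + 1))⁻¹ * w ∈ P.B → k + 1 ≤ D.n := by
        intro a h1
        have h2 := len_congr h1
        rw [hk] at h2
        have h3 := ih _ (D.W_mem (!a) k) (by
          have := len_alt_pred (D.mem a) (D.mem !a) h2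
          rwa [W, Bool.not_not])
        rcases Nat.lt_or_ge k D.n with h4 | h4
        · omega
        · have h5 : k = D.n := by omega
          subst h5
          exact absurd h2 (not_red_of_braid (D.mem a) (D.mem !a) (by have := D.two_le; omega) (D.braid a))
      rcases exists_alt hS' hw with h1 | h1
      · rw [hk] at h1
        exact aux true h1
      · rw [hk] at h1
        exact aux false h1
  exact key _ m hm rfl

/-- Bruhat decomposition with alternating words -/
theorem exists_W (g : G) : ∃ a l, l ≤ D.n ∧ g ∈ C P (D.W a l) := by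
  obtain ⟨m, hm, hg⟩ := bruhat (P := P) g
  rcases exists_alt D.hS hm with h1 | h1
  · exact ⟨true, len P m, D.len_le hm, by rw [← C_eq_of_rel h1] at hg; exact hg⟩
  · exact ⟨false, len P m, D.len_le hm, by rw [← C_eq_of_rel h1] at hg; exact hg⟩

theorem braid' (a : Bool) : C P (D.W a D.n) = C P (D.W (!a) D.n) := by
  apply C_eq_of_rel
  have := D.braid a
  rwa [W, W, Bool.not_not]

/-! ### the parabolic subgroups -/

/-- `B ∪ B σ_b B` -/
def par (b : Bool) : Subgroup G := P.parabolic {D.σ b}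

theorem mem_par {b : Bool} {g : G} : g ∈ D.par b ↔ g ∈ P.B ∨ g ∈ C P (D.σ b) := by
  have hsub : ({D.σ b} : Set G) ⊆ P.S := Set.singleton_subset_iff.2 (D.mem b)
  constructor
  · intro h
    obtain ⟨m, hm, hg⟩ := (mem_parabolic_iff hsub g).1 h
    obtain ⟨k, rfl⟩ := Subgroup.mem_closure_singleton.1 hm
    have hsq : D.σ b * D.σ b ∈ P.B := P.sq_mem _ (D.mem b)
    have hz : ∀ j : ℤ, D.σ b ^ (2 * j) ∈ P.B := by
      intro j
      rw [two_mul, zpow_add, ← (Commute.refl (D.σ b)).mul_zpow]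
      exact zpow_mem hsq j
    rcases Int.even_or_odd' k with ⟨j, hj | hj⟩
    · left
      rw [hj] at hg
      exact mem_B_of_mem_C (hz j) hg
    · right
      have h1 : (D.σ b)⁻¹ * (D.σ b ^ k) ∈ P.B := by
        have : (D.σ b)⁻¹ * (D.σ b ^ k) = D.σ b ^ (2 * j) := by
          rw [hj, add_comm, zpow_add, zpow_one, inv_mul_cancel_left]
        rw [this]
        exact hz j
      rw [← C_eq_of_rel h1] at hg
      exact hg
  · rintro (h | h)
    · exact (le_sup_left : P.B ≤ P.parabolic {D.σ b}) h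
    · exact mem_of_mem_C' le_sup_left h
        ((le_sup_right : Subgroup.closure {D.σ b} ≤ P.parabolic {D.σ b}) (Subgroup.subset_closure rfl))

theorem B_le_par (b : Bool) : P.B ≤ D.par b := fun _ h => D.mem_par.2 (Or.inl h)

theorem inf_par {a : Bool} {g : G} (h : g ∈ D.par a) (h' : g ∈ D.par !a) : g ∈ P.B := by
  rcases D.mem_par.1 h with h1 | h1
  · exact h1
  rcases D.mem_par.1 h' with h2 | h2
  · exact h2
  exfalso
  have h3 := rel_of_C_eq (D.memN a) (D.memN !a) (C_eq_of_mem_mem h1 h2)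
  have h4 := P.inj _ (D.mem a) _ (D.mem !a) h3
  cases a
  · exact D.ne h4.symm
  · exact D.ne h4

/-! ### vertices and paths -/

/-- the vertices -/
abbrev V : Type u := Σ b : Bool, G ⧸ D.par b

/-- the vertex of type `b` of the chamber `x B` -/
def vt (b : Bool) (x : G) : D.V := ⟨b, (x : G ⧸ D.par b)⟩

theorem exists_vt (v : D.V) : ∃ x, v = D.vt v.1 x := by
  obtain ⟨b, y⟩ := v
  induction y using QuotientGroup.induction_on with
  | H x => exact ⟨x, rfl⟩

theorem vt_eq {b : Bool} {x y : G} : D.vt b x = D.vt b y ↔ x⁻¹ * y ∈ D.par b := by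
  rw [vt, vt, Sigma.mk.injEq, ← QuotientGroup.eq]
  simp

theorem smul_vt (g : G) (b : Bool) (x : G) : g • D.vt b x = D.vt b (g * x) := rfl

theorem vt_fst (b : Bool) (x : G) : (D.vt b x).1 = b := rfl

/-- adjacency -/
def adj (v w : D.V) : Prop := ∃ b x, v = D.vt b x ∧ w = D.vt (!b) x

theorem adj_symm {v w : D.V} (h : D.adj v w) : D.adj w v := by
  obtain ⟨b, x, rfl, rfl⟩ := h
  exact ⟨!b, x, rfl, by rw [Bool.not_not]⟩

theorem adj_tp {v w : D.V} (h : D.adj v w) : w.1 = !v.1 := by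
  obtain ⟨b, x, rfl, rfl⟩ := h
  rfl

theorem adj_smul (g : G) {v w : D.V} (h : D.adj v w) : D.adj (g • v) (g • w) := by
  obtain ⟨b, x, rfl, rfl⟩ := h
  exact ⟨b, g * x, rfl, rfl⟩

variable {D}

theorem exists_ch {k : ℕ} {p : ℕ → D.V} (h : IsPath D.adj k p) :
    ∃ c : ℕ → G, ∀ i, i < k → p i = D.vt (p i).1 (c i) ∧ p (i + 1) = D.vt (!(p i).1) (c i) := by
  have : ∀ i, ∃ x : G, i < k → p i = D.vt (p i).1 x ∧ p (i + 1) = D.vt (!(p i).1) x := by
    intro i
    by_cases hi : i < k
    · obtain ⟨b, x, h1, h2⟩ := h.1 i hi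
      have hb : (p i).1 = b := congrArg Sigma.fst h1
      refine ⟨x, fun _ => ?_⟩
      rw [hb]
      exact ⟨h1, h2⟩
    · exact ⟨1, fun h' => absurd h' hi⟩
  choose c hc using this
  exact ⟨c, hc⟩

theorem ch_step {k : ℕ} {p : ℕ → D.V} (h : IsPath D.adj k p) {c : ℕ → G}
    (hc : ∀ i, i < k → p i = D.vt (p i).1 (c i) ∧ p (i + 1) = D.vt (!(p i).1) (c i)) {i : ℕ} (hi : i + 1 < k) :
    (c i)⁻¹ * c (i + 1) ∈ C P (D.σ (p (i + 1)).1) := by
  have h1 := (hc i (by omega)).2
  have h2 := (hc (i + 1) hi).1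
  have ht : (p (i + 1)).1 = !(p i).1 := congrArg Sigma.fst h1
  rw [← ht] at h1
  have h3 := D.vt_eq.1 (h1.symm.trans h2)
  rcases D.mem_par.1 h3 with hB | hC
  · exfalso
    apply h.2 i hi
    have h4 := (hc (i + 1) hi).2
    rw [ht, Bool.not_not] at h4
    rw [h4]
    refine Eq.trans ?_ (hc i (by omega)).1.symm
    rw [eq_comm, D.vt_eq]
    exact D.B_le_par _ hB
  · exact hC

theorem gal {k : ℕ} {p : ℕ → D.V} (h : IsPath D.adj k p) {c : ℕ → G}
    (hc : ∀ i, i < k → p i = D.vt (p i).1 (c i) ∧ p (i + 1) = D.vt (!(p i).1) (c i)) :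
    ∀ j i, i + j < k → j ≤ D.n → (c i)⁻¹ * c (i + j) ∈ C P (D.W (p (i + 1)).1 j) := by
  intro j
  induction j with
  | zero =>
    intro i _ _
    rw [add_zero, inv_mul_cancel, W_zero]
    exact self_mem_C 1
  | succ j ih =>
    intro i hi hj
    have h1 := ch_step h hc (i := i) (by omega)
    have h2 := ih (i + 1) (by omega) (by omega)
    have ht : (p (i + 1 + 1)).1 = !(p (i + 1)).1 := D.adj_tp (h.1 (i + 1) (by omega))
    rw [ht] at h2
    have h3 := D.comp hj h1 h2
    have e : i + (j + 1) = i + 1 + j := by omega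
    rw [e]
    exact h3

theorem tp_path {k : ℕ} {p : ℕ → D.V} (h : IsPath D.adj k p) :
    ∀ i, i ≤ k → (p i).1 = xor (p 0).1 (Nat.bodd i) := by
  intro i
  induction i with
  | zero => intro _; simp
  | succ i ih =>
    intro hi
    rw [D.adj_tp (h.1 i hi), ih (by omega), Nat.bodd_succ]
    cases (p 0).1 <;> cases Nat.bodd i <;> rfl

/-- there are no closed paths of length `1 ≤ m < 2 n` -/
theorem no_closed {m : ℕ} (hm1 : 1 ≤ m) (hm2 : m < 2 * D.n) {p : ℕ → D.V} (h : IsPath D.adj m p) (h0 : p 0 = p m) :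
    False := by
  obtain ⟨h', hh⟩ : ∃ h', m = 2 * h' := by
    have h1 := tp_path h m le_rfl
    rw [← h0] at h1
    have h2 : Nat.bodd m = false := by
      revert h1
      cases (p 0).1 <;> cases Nat.bodd m <;> simp
    have h3 := Nat.bodd_add_div2 m
    rw [h2] at h3
    exact ⟨Nat.div2 m, by simpa using h3.symm⟩
  obtain ⟨c, hc⟩ := exists_ch h
  have g1 := gal h hc h' 0 (by omega) (by omega)
  -- the reversed path
  have hr := prev (adj := D.adj) (fun {v w} h => D.adj_symm h) h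
  have hcr : ∀ i, i < m → (fun j => p (m - j)) i = D.vt ((fun j => p (m - j)) i).1 (c (m - 1 - i)) ∧
      (fun j => p (m - j)) (i + 1) = D.vt (!((fun j => p (m - j)) i).1) (c (m - 1 - i)) := by
    intro i hi
    have h1 := hc (m - 1 - i) (by omega)
    have e : m - 1 - i + 1 = m - i := by omega
    have e2 : m - 1 - i = m - (i + 1) := by omega
    rw [e] at h1
    have ht : (p (m - i)).1 = !(p (m - 1 - i)).1 := congrArg Sigma.fst h1.2
    dsimp only
    refine ⟨?_, ?_⟩
    · rw [ht]; exact h1.2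
    · rw [ht, Bool.not_not, ← e2]; exact h1.1
  have g2 := gal hr hcr (h' - 1) 0 (by omega) (by omega)
  have e1 : 0 + h' = h' := by omega
  have e3 : m - 1 - (0 + (h' - 1)) = h' := by omega
  have e4 : m - 1 - 0 = m - 1 := by omega
  rw [e3, e4] at g2
  rw [e1] at g1
  have ht1 : (p (0 + 1)).1 = !(p 0).1 := D.adj_tp (h.1 0 (by omega))
  have ht2 : (p (m - (0 + 1))).1 = !(p 0).1 := by
    have := D.adj_tp (h.1 (m - (0 + 1)) (by omega))
    have e : m - (0 + 1) + 1 = m := by omega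
    rw [e, ← h0] at this
    rw [this, Bool.not_not]
  rw [ht1] at g1
  rw [ht2] at g2
  -- `c 0` and `c (m - 1)` share `p 0`
  have h3 : (c 0)⁻¹ * c (m - 1) ∈ D.par (p 0).1 := by
    have h4 := (hc 0 (by omega)).1
    have h5 := (hc (m - 1) (by omega)).2
    have e : m - 1 + 1 = m := by omega
    rw [e, ← h0] at h5
    have h6 : (p (m - 1)).1 = !(p 0).1 := by
      have := ht2
      rwa [zero_add] at this
    rw [h6, Bool.not_not] at h5
    exact D.vt_eq.1 (h4.symm.trans h5)
  rcases D.mem_par.1 h3 with hB | hC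
  · have g3 : (c 0)⁻¹ * c h' ∈ C P (D.W (!(p 0).1) (h' - 1)) := by
      have e : (c 0)⁻¹ * c h' = ((c 0)⁻¹ * c (m - 1)) * ((c (m - 1))⁻¹ * c h') := by group
      rw [e]
      exact mul_mem_C_left hB g2
    have := D.eq_len (by omega) (by omega) g1 g3
    omega
  · have g3 := D.comp (by omega) hC g2
    have e : h' - 1 + 1 = h' := by omega
    rw [e] at g3
    have := D.eq_type (by omega) (by omega) g1 g3
    cases hb : (p 0).1 <;> rw [hb] at this <;> simp at this

theorem path_unique : ∀ {k l : ℕ} {p p' : ℕ → D.V}, IsPath D.adj k p → IsPath D.adj l p' → p 0 = p' 0 → p k = p' l →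
    k + l < 2 * D.n → k = l ∧ ∀ i, i ≤ k → p i = p' i := by
  intro k
  induction k with
  | zero =>
    intro l p p' hp hp' h0 hk hlt
    have hl : l = 0 := by
      by_contra hne
      exact no_closed (by omega) (by omega) hp' (h0.symm.trans hk)
    subst hl
    refine ⟨rfl, fun i hi => ?_⟩
    have : i = 0 := by omega
    subst this
    exact h0
  | succ k ih =>
    intro l p p' hp hp' h0 hk hlt
    rcases Nat.eq_zero_or_pos l with rfl | hl
    · exact (no_closed (by omega) (by omega) hp (h0.trans hk.symm)).elim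
    obtain ⟨l, rfl⟩ : ∃ m, l = m + 1 := ⟨l - 1, by omega⟩
    by_cases h1 : p 1 = p' 1
    · have a1 := pshift hp 1
      have a2 := pshift hp' 1
      have e1 : k + 1 - 1 = k := by omega
      have e2 : l + 1 - 1 = l := by omega
      rw [e1] at a1
      rw [e2] at a2
      obtain ⟨h2, h3⟩ := ih a1 a2 (by simpa using h1) (by rw [add_comm 1 k, add_comm 1 l]; exact hk) (by omega)
      refine ⟨by omega, fun i hi => ?_⟩
      rcases Nat.eq_zero_or_pos i with rfl | hi0
      · exact h0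
      · have := h3 (i - 1) (by omega)
        have e : 1 + (i - 1) = i := by omega
        rwa [e] at this
    · exfalso
      have a1 := prev (adj := D.adj) (fun {v w} h => D.adj_symm h) hp
      have a2 := pappend a1 hp' (by
        rw [Nat.sub_self]
        exact h0) (fun _ _ => by
        have e : k + 1 - (k + 1 - 1) = 1 := by omega
        rw [e]
        exact fun h => h1 h.symm)
      refine no_closed (by omega) (by omega) a2 ?_
      rw [if_pos (by omega), if_neg (by omega)]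
      have e : k + 1 + (l + 1) - (k + 1) = l + 1 := by omega
      rw [e, Nat.sub_zero]
      exact hk

theorem psmul {k : ℕ} {p : ℕ → D.V} (h : IsPath D.adj k p) (g : G) : IsPath D.adj k (fun i => g • p i) :=
  ⟨fun i hi => D.adj_smul g (h.1 i hi), fun i hi he => h.2 i hi (MulAction.injective g he)⟩

/-- transitivity on paths of length `≤ n + 1` -/
theorem trans {k : ℕ} {p p' : ℕ → D.V} (hk : k ≤ D.n + 1) (hp : IsPath D.adj k p) (hp' : IsPath D.adj k p')
    (h0 : (p 0).1 = (p' 0).1) : ∃ g : G, ∀ i, i ≤ k → g • p i = p' i := by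
  rcases Nat.eq_zero_or_pos k with rfl | hk0
  · obtain ⟨x, hx⟩ := D.exists_vt (p 0)
    obtain ⟨y, hy⟩ := D.exists_vt (p' 0)
    refine ⟨y * x⁻¹, fun i hi => ?_⟩
    have : i = 0 := by omega
    subst this
    rw [hx, hy, ← h0, smul_vt, inv_mul_cancel_right]
  obtain ⟨c, hc⟩ := exists_ch hp
  obtain ⟨c', hc'⟩ := exists_ch hp'
  have g1 := gal hp hc (k - 1) 0 (by omega) (by omega)
  have g2 := gal hp' hc' (k - 1) 0 (by omega) (by omega)
  have ht : (p (0 + 1)).1 = (p' (0 + 1)).1 := by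
    rw [D.adj_tp (hp.1 0 hk0), D.adj_tp (hp'.1 0 hk0), h0]
  rw [zero_add] at g1 g2 ht
  have ek : 0 + (k - 1) = k - 1 := by omega
  rw [ht, ek] at g1
  rw [ek] at g2
  obtain ⟨b1, hb1, b2, hb2, e1⟩ := mem_C.1 g1
  obtain ⟨b1', hb1', b2', hb2', e2⟩ := mem_C.1 g2
  set w := D.W (p' 1).1 (k - 1)
  set g := c' 0 * b1' * b1⁻¹ * (c 0)⁻¹ with hg
  have r0 : (g * c 0)⁻¹ * c' 0 ∈ P.B := by
    have e : (g * c 0)⁻¹ * c' 0 = b1 * b1'⁻¹ := by rw [hg]; group
    rw [e]
    exact mul_mem hb1 (inv_mem hb1')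
  have r1 : (g * c (k - 1))⁻¹ * c' (k - 1) ∈ P.B := by
    have e3 : g * c (k - 1) = c' 0 * b1' * w * b2 := by
      calc g * c (k - 1) = c' 0 * b1' * b1⁻¹ * ((c 0)⁻¹ * c (k - 1)) := by rw [hg]; group
        _ = _ := by rw [e1]; group
    have e4 : c' (k - 1) = c' 0 * b1' * w * b2' := by
      calc c' (k - 1) = c' 0 * ((c' 0)⁻¹ * c' (k - 1)) := by group
        _ = _ := by rw [e2]; group
    have e : (g * c (k - 1))⁻¹ * c' (k - 1) = b2⁻¹ * b2' := by rw [e3, e4]; group
    rw [e]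
    exact mul_mem (inv_mem hb2) hb2'
  have s0 : ∀ b, g • D.vt b (c 0) = D.vt b (c' 0) := fun b => by
    rw [smul_vt, vt_eq]; exact D.B_le_par b r0
  have s1 : ∀ b, g • D.vt b (c (k - 1)) = D.vt b (c' (k - 1)) := fun b => by
    rw [smul_vt, vt_eq]; exact D.B_le_par b r1
  have t : ∀ i, i ≤ k → (p i).1 = (p' i).1 := fun i hi => by rw [tp_path hp i hi, tp_path hp' i hi, h0]
  have f0 : g • p 0 = p' 0 := by
    rw [(hc 0 hk0).1, (hc' 0 hk0).1, s0, h0]
  have f1 : g • p 1 = p' 1 := by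
    rw [(hc 0 hk0).2, (hc' 0 hk0).2, s0, h0]
  have f2 : g • p (k - 1) = p' (k - 1) := by
    rw [(hc (k - 1) (by omega)).1, (hc' (k - 1) (by omega)).1, s1, t (k - 1) (by omega)]
  have f3 : g • p k = p' k := by
    have a1 := (hc (k - 1) (by omega)).2
    have a2 := (hc' (k - 1) (by omega)).2
    have e : k - 1 + 1 = k := by omega
    rw [e] at a1 a2
    rw [a1, a2, s1, t (k - 1) (by omega)]
  refine ⟨g, fun i hi => ?_⟩
  rcases Nat.eq_zero_or_pos i with rfl | hi0
  · exact f0
  rcases Nat.lt_or_ge i k with hik | hik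
  · have a1 := pmono (pshift (psmul hp g) 1) (l := k - 2) (by omega)
    have a2 := pmono (pshift hp' 1) (l := k - 2) (by omega)
    have e : 1 + (k - 2) = k - 1 := by omega
    obtain ⟨-, h3⟩ := path_unique a1 a2 (by simpa using f1) (by rw [e]; exact f2) (by omega)
    have := h3 (i - 1) (by omega)
    have e' : 1 + (i - 1) = i := by omega
    rwa [e'] at this
  · have : i = k := by omega
    subst this
    exact f3

variable (D)

theorem exists_gal (l : ℕ) : ∀ (a : Bool) (x y : G), l ≤ D.n → x⁻¹ * y ∈ C P (D.W a l) →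
    ∃ f : ℕ → D.V, IsPath D.adj (l + 1) f ∧ f 0 = D.vt (!a) x ∧ f 1 = D.vt a x ∧
      f l = D.vt (!(xor a (Nat.bodd l))) y ∧ f (l + 1) = D.vt (xor a (Nat.bodd l)) y := by
  induction l with
  | zero =>
    intro a x y _ h
    rw [W_zero, mem_C_one] at h
    refine ⟨fun j => if j = 0 then D.vt (!a) x else D.vt a x, pone ⟨!a, x, rfl, by rw [Bool.not_not]⟩, rfl, rfl, ?_, ?_⟩
    · simp only [if_true, Nat.bodd_zero, Bool.xor_false]
      exact D.vt_eq.2 (D.B_le_par _ h)
    · simp only [Nat.bodd_zero, Bool.xor_false]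
      exact D.vt_eq.2 (D.B_le_par _ h)
  | succ l ih =>
    intro a x y hl h
    rw [W_succ] at h
    obtain ⟨z', hz1, hz2⟩ := exists_of_R_mul (R_mk_iff.2 h)
    induction z' using QuotientGroup.induction_on with
    | H z =>
    rw [R_mk_iff] at hz1 hz2
    obtain ⟨f, hf, f0, f1, fl, fl1⟩ := ih (!a) z y (by omega) hz2
    rw [Bool.not_not] at f0
    have hxz : D.vt a x = D.vt a z := D.vt_eq.2 (D.mem_par.2 (Or.inr hz1))
    have hb : Nat.bodd (l + 1) = !Nat.bodd l := Nat.bodd_succ l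
    have hx : xor a (Nat.bodd (l + 1)) = xor (!a) (Nat.bodd l) := by
      rw [hb]; cases a <;> cases Nat.bodd l <;> rfl
    refine ⟨fun j => if j = 0 then D.vt (!a) x else f (j - 1), pcons hf ?_ ?_, rfl, ?_, ?_, ?_⟩
    · rw [f0, ← hxz]
      exact ⟨!a, x, rfl, by rw [Bool.not_not]⟩
    · intro _ he
      rw [f1] at he
      have h1 := D.vt_eq.1 he
      have h2 : x⁻¹ * z ∈ D.par !a := by
        have := inv_mem h1
        rwa [mul_inv_rev, inv_inv] at this
      have h3 := D.inf_par (D.mem_par.2 (Or.inr hz1)) h2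
      have h4 : C P (1 : G) = C P (D.σ a) := C_eq_of_mem_mem (mem_C_one.2 h3) hz1
      have h5 : D.σ a ∈ C P (1 : G) := h4 ▸ self_mem_C _
      exact not_mem_B (D.mem a) (mem_C_one.1 h5)
    · show f 0 = D.vt a x
      rw [f0, hxz]
    · show f l = _
      rw [fl, hx]
    · show f (l + 1) = _
      rw [fl1, hx]

theorem exists_path (v w : D.V) : ∃ k, k ≤ D.n ∧ ∃ p : ℕ → D.V, IsPath D.adj k p ∧ p 0 = v ∧ p k = w := by
  obtain ⟨x, hx⟩ := D.exists_vt v
  obtain ⟨y, hy⟩ := D.exists_vt w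
  set b := v.1 with hb
  set c := w.1 with hc
  have h2 := D.two_le
  obtain ⟨a, l, hl, hm, hl0, hln⟩ : ∃ a l, l ≤ D.n ∧ x⁻¹ * y ∈ C P (D.W a l) ∧ (l = 0 → a = !b) ∧ (l = D.n → a = b) := by
    obtain ⟨a, l, hl, hm⟩ := D.exists_W (x⁻¹ * y)
    rcases Nat.eq_zero_or_pos l with rfl | hl0
    · exact ⟨!b, 0, hl, hm, fun _ => rfl, fun h => by omega⟩
    by_cases hln : l = D.n
    · subst hln
      refine ⟨b, D.n, le_rfl, ?_, fun h => by omega, fun _ => rfl⟩
      by_cases hab : a = b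
      · rw [← hab]; exact hm
      · have : a = !b := by revert hab; cases a <;> cases b <;> simp
        rw [this] at hm
        rw [D.braid' b]
        exact hm
    · exact ⟨a, l, hl, hm, fun h => by omega, fun h => absurd h hln⟩
  obtain ⟨f, hf, f0, f1, fl, fl1⟩ := D.exists_gal l a x y hl hm
  have hd : ∃ d, d ≤ 1 ∧ f d = v ∧ (l = 0 → d = 0) ∧ (l = D.n → d = 1) := by
    by_cases hab : a = b
    · refine ⟨1, le_rfl, by rw [f1, hab, ← hx], fun h => ?_, fun _ => rfl⟩
      exfalso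
      have := hl0 h
      rw [hab] at this
      cases b <;> simp at this
    · have hb' : b = !a := by revert hab; cases a <;> cases b <;> simp
      refine ⟨0, by omega, by rw [f0, ← hb', ← hx], fun _ => rfl, fun h => absurd (hln h) hab⟩
  have he : ∃ e, e ≤ 1 ∧ f (l + 1 - e) = w := by
    by_cases hcx : c = xor a (Nat.bodd l)
    · exact ⟨0, by omega, by rw [Nat.sub_zero, fl1, ← hcx, ← hy]⟩
    · have hc' : c = !(xor a (Nat.bodd l)) := by
        revert hcx; cases c <;> cases (xor a (Nat.bodd l)) <;> simp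
      exact ⟨1, le_rfl, by rw [Nat.add_sub_cancel, fl, ← hc', ← hy]⟩
  obtain ⟨d, hd1, hd2, hd3, hd4⟩ := hd
  obtain ⟨e, he1, he2⟩ := he
  refine ⟨l + 1 - e - d, by omega, fun j => f (d + j), pmono (pshift hf d) (by omega), ?_, ?_⟩
  · exact hd2
  · have : d + (l + 1 - e - d) = l + 1 - e := by omega
    dsimp only
    rw [this, he2]

/-! ### neighbours -/

/-- the vertex of type `b` of a chamber -/
def pr (b : Bool) (y : G ⧸ P.B) : D.V := ⟨b, Subgroup.quotientMapOfLE (D.B_le_par b) y⟩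

theorem pr_mk (b : Bool) (y : G) : D.pr b (y : G ⧸ P.B) = D.vt b y := rfl

theorem card_nb [Finite G] (v : D.V) : Nat.card {w : D.V // D.adj v w} = q P (D.σ v.1) + 1 := by
  obtain ⟨x, hx⟩ := D.exists_vt v
  set b := v.1 with hb
  rw [hx]
  have h1 : {w : D.V | D.adj (D.vt b x) w} =
      D.pr (!b) '' (insert (x : G ⧸ P.B) {y | R P (D.σ b) (x : G ⧸ P.B) y}) := by
    ext w
    constructor
    · rintro ⟨b', y, h1, h2⟩
      have hbb : b = b' := congrArg Sigma.fst h1
      subst hbb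
      refine ⟨(y : G ⧸ P.B), ?_, by rw [pr_mk]; exact h2.symm⟩
      rcases D.mem_par.1 (D.vt_eq.1 h1) with h3 | h3
      · left
        exact (QuotientGroup.eq.2 h3).symm
      · right
        exact R_mk_iff.2 h3
    · rintro ⟨y', hy, rfl⟩
      induction y' using QuotientGroup.induction_on with
      | H y =>
      rw [pr_mk]
      refine ⟨b, y, ?_, rfl⟩
      rw [D.vt_eq]
      rcases hy with hy | hy
      · exact D.B_le_par _ (QuotientGroup.eq.1 hy.symm)
      · exact D.mem_par.2 (Or.inr (R_mk_iff.1 hy))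
  have h2 : Nat.card {w : D.V // D.adj (D.vt b x) w} = Set.ncard {w : D.V | D.adj (D.vt b x) w} := rfl
  rw [h2, h1, Set.InjOn.ncard_image, Set.ncard_insert_of_notMem, ← card_R (D.σ b) (x : G ⧸ P.B)]
  · rfl
  · exact R_irrefl (not_mem_B (D.mem b)) _
  · intro y' hy z' hz hyz
    induction y' using QuotientGroup.induction_on with
    | H y =>
    induction z' using QuotientGroup.induction_on with
    | H z =>
    have hin : ∀ u : G, (u : G ⧸ P.B) ∈ insert (x : G ⧸ P.B) {y | R P (D.σ b) (x : G ⧸ P.B) y} →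
        x⁻¹ * u ∈ D.par b := by
      intro u hu
      rcases hu with hu | hu
      · exact D.B_le_par _ (QuotientGroup.eq.1 hu.symm)
      · exact D.mem_par.2 (Or.inr (R_mk_iff.1 hu))
    rw [QuotientGroup.eq]
    rw [pr_mk, pr_mk, D.vt_eq] at hyz
    refine D.inf_par ?_ hyz
    have e : y⁻¹ * z = (x⁻¹ * y)⁻¹ * (x⁻¹ * z) := by group
    rw [e]
    exact mul_mem (inv_mem (hin y hy)) (hin z hz)

theorem mem_stab {b : Bool} {x g : G} : g • D.vt b x = D.vt b x ↔ x⁻¹ * g * x ∈ D.par b := by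
  rw [smul_vt, eq_comm, D.vt_eq, mul_assoc]

theorem faithful (hcore : P.B.normalCore = ⊥) {g : G} (h : ∀ v : D.V, g • v = v) : g = 1 := by
  have h1 : g ∈ P.B.normalCore := by
    intro b
    have h2 : ∀ a, b * g * b⁻¹ ∈ D.par a := by
      intro a
      have := D.mem_stab.1 (h (D.vt a b⁻¹))
      rwa [inv_inv] at this
    exact D.inf_par (h2 true) (h2 !true)
  rw [hcore] at h1
  exact h1

theorem stab_eq (b : Bool) (x : G) :
    MulAction.stabilizer G (D.vt b x) = (P.parabolic {D.σ b}).map (MulAut.conj x).toMonoidHom := by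
  ext g
  rw [MulAction.mem_stabilizer_iff, D.mem_stab]
  constructor
  · intro h
    exact ⟨x⁻¹ * g * x, h, by simp [MulAut.conj_apply, mul_assoc]⟩
  · rintro ⟨u, hu, rfl⟩
    have e : x⁻¹ * (MulAut.conj x).toMonoidHom u * x = u := by
      simp [MulAut.conj_apply, mul_assoc]
    rw [e]
    exact hu

end Dat

/-- `|B : B ∩ s B s⁻¹| = |B s B / B|` -/
theorem relIndex_eq [Finite G] (s : G) :
    (P.B ⊓ P.B.map (MulAut.conj s).toMonoidHom).relIndex P.B = q P s := by
  have h1 : (P.B ⊓ P.B.map (MulAut.conj s).toMonoidHom).subgroupOf P.B =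
      MulAction.stabilizer ↥P.B ((s : G) : G ⧸ P.B) := by
    ext b
    rw [Subgroup.mem_subgroupOf, MulAction.mem_stabilizer_iff]
    have h2 : b • ((s : G) : G ⧸ P.B) = (((b : G) * s : G) : G ⧸ P.B) := rfl
    rw [h2, eq_comm, QuotientGroup.eq]
    constructor
    · rintro ⟨-, u, hu, hu2⟩
      have hu3 : s * u * s⁻¹ = (b : G) := hu2
      have e : s⁻¹ * ((b : G) * s) = u := by rw [← hu3]; group
      rw [e]
      exact hu
    · intro h
      refine ⟨b.2, s⁻¹ * ((b : G) * s), h, ?_⟩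
      show s * (s⁻¹ * ((b : G) * s)) * s⁻¹ = (b : G)
      group
  rw [Subgroup.relIndex, h1, MulAction.index_stabilizer]
  unfold q
  have h3 : MulAction.orbit ↥P.B ((s : G) : G ⧸ P.B) = {y | R P s ((1 : G) : G ⧸ P.B) y} := by
    ext y
    induction y using QuotientGroup.induction_on with
    | H y =>
    constructor
    · rintro ⟨b, hb⟩
      have hb' : (((b : G) * s : G) : G ⧸ P.B) = (y : G ⧸ P.B) := hb
      refine R_mk_iff.2 ?_
      rw [inv_one, one_mul]
      rw [QuotientGroup.eq] at hb'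
      exact mem_C.2 ⟨b, b.2, _, hb', by group⟩
    · intro h
      have h4 := R_mk_iff.1 h
      rw [inv_one, one_mul] at h4
      obtain ⟨b, hb, b', hb', rfl⟩ := mem_C.1 h4
      refine ⟨⟨b, hb⟩, ?_⟩
      show ((b * s : G) : G ⧸ P.B) = ((b * s * b' : G) : G ⧸ P.B)
      rw [QuotientGroup.eq]
      have e : (b * s)⁻¹ * (b * s * b') = b' := by group
      rw [e]
      exact hb'
  rw [h3]
  rfl

/-- **G1**: the generalized polygon of a (B,N)-pair of rank two. -/
theorem exists_pol {G : Type u} [Group G] [Finite G] (B : BNPair G) (h2 : B.rank = 2) (hirr : B.Irreducible)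
    (hcore : B.B.normalCore = ⊥) : ((B.B ⊓ B.N).subgroupOf B.N).index = 6 ∨
      ∃ (V : Type u) (_ : MulAction G V) (_ : Finite V) (P : Pol G V),
        ((B.B ⊓ B.N).subgroupOf B.N).index = 2 * P.n ∧
        (∀ s ∈ B.S, ∃ b, (B.B ⊓ B.B.map (MulAut.conj s).toMonoidHom).relIndex B.B = P.q b) ∧
        (∀ b, ∃ s ∈ B.S, (B.B ⊓ B.B.map (MulAut.conj s).toMonoidHom).relIndex B.B = P.q b) ∧
        (∃ x y, P.adj x y ∧ P.S x ⊓ P.S y = B.B) ∧
        (∀ v : V, ∃ s ∈ B.S, ∃ g : G, P.S v = (B.parabolic {s}).map (MulAut.conj g).toMonoidHom ∧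
          (B.B ⊓ B.B.map (MulAut.conj s).toMonoidHom).relIndex B.B = P.q (P.tp v)) := by
  obtain ⟨D, hD⟩ := exists_dat B h2
  have hFH := Cfsg.Agent.S1142.result B h2
  rw [hD] at hFH
  have hn2 : D.n ≠ 2 := by
    intro h
    obtain ⟨s, hs, s', hs', hne⟩ := hirr {D.σ true} (Set.singleton_subset_iff.2 (D.mem true)) (Set.singleton_nonempty _)
      ⟨D.σ false, D.mem false, fun h => D.ne h.symm⟩
    have e1 : s = D.σ true := hs
    have e2 : s' = D.σ false := by
      obtain ⟨b, hb⟩ := D.eq_of_mem hs'.1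
      cases b
      · exact hb
      · exact absurd hb hs'.2
    subst e1
    subst e2
    have hb := D.braid true
    rw [h, alt_succ, alt_one, alt_succ, alt_one, Bool.not_true] at hb
    -- `(s t)⁻¹ (t s) ∈ B`
    have hN : (D.σ true * D.σ false)⁻¹ * (D.σ false * D.σ true) ∈ B.N :=
      mul_mem (inv_mem (mul_mem (D.memN true) (D.memN false))) (mul_mem (D.memN false) (D.memN true))
    have h3 := B.conj_mem _ (mul_mem (D.memN true) (D.memN false)) _ ⟨hb, hN⟩
    have e : D.σ true * D.σ false * ((D.σ true * D.σ false)⁻¹ * (D.σ false * D.σ true)) * (D.σ true * D.σ false)⁻¹ =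
        (D.σ true * D.σ false * (D.σ true)⁻¹ * (D.σ false)⁻¹)⁻¹ := by group
    rw [e] at h3
    exact hne (by simpa using inv_mem h3)
  rw [hD]
  have hcase : D.n = 3 ∨ D.n = 4 ∨ D.n = 6 ∨ D.n = 8 := by
    simp only [Set.mem_insert_iff, Set.mem_singleton_iff] at hFH
    omega
  rcases hcase with h | hcase
  · left; omega
  right
  refine ⟨D.V, inferInstance, inferInstance,
    { n := D.n
      hn := hcase
      q := fun b => q B (D.σ b)
      two_le := fun b => two_le_q (D.mem b)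
      tp := fun v => v.1
      adj := D.adj
      nonempty := ⟨D.vt true 1⟩
      symm := fun h => D.adj_symm h
      tp_adj := fun h => D.adj_tp h
      smul_adj := fun g _ _ h => D.adj_smul g h
      smul_tp := fun _ _ => rfl
      card_nb := fun v => D.card_nb v
      exists_path := fun v w => D.exists_path v w
      path_unique := fun h h' h0 hk hlt => Dat.path_unique h h' h0 hk hlt
      trans := fun hk hp hp' h0 => Dat.trans hk hp hp' h0
      faithful := fun g h => D.faithful hcore h }, rfl, ?_, ?_, ?_, ?_⟩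
  · intro s hs
    obtain ⟨b, rfl⟩ := D.eq_of_mem hs
    exact ⟨b, relIndex_eq _⟩
  · intro b
    exact ⟨D.σ b, D.mem b, relIndex_eq _⟩
  · refine ⟨D.vt true 1, D.vt false 1, ⟨true, 1, rfl, rfl⟩, ?_⟩
    ext g
    constructor
    · rintro ⟨h1, h2⟩
      have h3 := D.mem_stab.1 h1
      have h4 := D.mem_stab.1 h2
      rw [inv_one, one_mul, mul_one] at h3 h4
      exact D.inf_par h3 h4
    · intro h
      refine ⟨D.mem_stab.2 ?_, D.mem_stab.2 ?_⟩
      · rw [inv_one, one_mul, mul_one]; exact D.B_le_par _ h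
      · rw [inv_one, one_mul, mul_one]; exact D.B_le_par _ h
  · intro v
    obtain ⟨x, hx⟩ := D.exists_vt v
    refine ⟨D.σ v.1, D.mem _, x, ?_, relIndex_eq _⟩
    show MulAction.stabilizer G v = _
    conv_lhs => rw [hx]
    exact D.stab_eq _ _

end Cfsg.Agent.H640.Tits.Bn
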